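import Cfsg.Agent.Helper78.Brandt.ClassMat

/-!
# Definitions for the ring-theoretic proof of Külshammer's theorem on small blocks (S4648)

* `traceFormSpace k A`: linear forms on `A` vanishing on commutators and on nilpotent elements
  (every trace of a simple module is such a form);
* `traceFormSpaceAt k ε`: those supported on the block of the central idempotent `ε`;
* `pReg p g`: the `p'`-part of the group element `g`, as an explicit power of `g`;
* `regClassMat p B`: the matrix, on class functions, of
  `φ ↦ (extension by p'-parts of the B-part of the extension by p'-parts of φ)`.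
-/

set_option autoImplicit false

namespace Cfsg.Agent.Helper78.Kuel

open Cfsg Cfsg.Agent.Helper78.Brandt

section ring

variable (k : Type*) [Field k]

/-- The space of `k`-linear forms on the algebra `A` that are symmetric (`f (a b) = f (b a)`) and
vanish on the nilpotent elements. -/
def traceFormSpace (A : Type*) [Ring A] [Algebra k A] : Submodule k (Module.Dual k A) where
  carrier := {f | (∀ a b : A, f (a * b) = f (b * a)) ∧ ∀ a : A, IsNilpotent a → f a = 0}
  add_mem' := by
    rintro f g ⟨hf1, hf2⟩ ⟨hg1, hg2⟩
    refine ⟨fun a b => ?_, fun a ha => ?_⟩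
    · simp [hf1 a b, hg1 a b]
    · simp [hf2 a ha, hg2 a ha]
  zero_mem' := ⟨fun _ _ => rfl, fun _ _ => rfl⟩
  smul_mem' := by
    rintro c f ⟨hf1, hf2⟩
    refine ⟨fun a b => ?_, fun a ha => ?_⟩
    · simp [hf1 a b]
    · simp [hf2 a ha]

variable {A : Type*} [Ring A] [Algebra k A]

/-- The trace forms supported on the block of the (central idempotent) element `ε`. -/
def traceFormSpaceAt (ε : A) : Submodule k (Module.Dual k A) where
  carrier := {f | f ∈ traceFormSpace k A ∧ ∀ a : A, f (a * ε) = f a}
  add_mem' := by
    rintro f g ⟨hf1, hf2⟩ ⟨hg1, hg2⟩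
    exact ⟨Submodule.add_mem _ hf1 hg1, fun a => by simp [hf2 a, hg2 a]⟩
  zero_mem' := ⟨Submodule.zero_mem _, fun _ => rfl⟩
  smul_mem' := by
    rintro c f ⟨hf1, hf2⟩
    exact ⟨Submodule.smul_mem _ c hf1, fun a => by simp [hf2 a]⟩

variable {k}

theorem mem_traceFormSpace {f : Module.Dual k A} :
    f ∈ traceFormSpace k A ↔
      (∀ a b : A, f (a * b) = f (b * a)) ∧ ∀ a : A, IsNilpotent a → f a = 0 := Iff.rfl

theorem mem_traceFormSpaceAt {ε : A} {f : Module.Dual k A} :
    f ∈ traceFormSpaceAt k ε ↔ f ∈ traceFormSpace k A ∧ ∀ a : A, f (a * ε) = f a := Iff.rfl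

end ring

section group

universe u

variable {G : Type u} [Group G]

/-- An exponent `N` with `N ≡ 1` modulo the `p'`-part of `n` and `N ≡ 0` modulo the `p`-part of
`n`. -/
def pRegExp (p n : ℕ) : ℕ :=
  (p ^ n.factorization p) ^ Nat.totient (n / p ^ n.factorization p)

/-- The `p'`-part of the element `g` of a finite group, as a power of `g`. -/
noncomputable def pReg (p : ℕ) (g : G) : G := g ^ pRegExp p (Nat.card G)

variable [Fintype G]

open Classical in
/-- The matrix `E`, indexed by conjugacy classes, with
`∑_{C'} E C C' * φ C' = ∑_h blockCoeff B h * φ (class of (g_{p'} h)_{p'})` for `g ∈ C`: on class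
functions it is `φ ↦ hat ((hat φ)_B)`, where `hat ψ = ψ ∘ pReg p` and `ψ_B` is the `B`-part. -/
noncomputable def regClassMat (p : ℕ) (B : Set (IrrCharacter G)) :
    Matrix (ConjClasses G) (ConjClasses G) ℂ :=
  fun C C' => ∑ h : G,
    if ConjClasses.mk (pReg p (pReg p (Quotient.out C) * h)) = C' then blockCoeff B h else 0

end group

end Cfsg.Agent.Helper78.Kuel
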