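import Cfsg.Agent.Helper77.ExtFirstMain
import Cfsg.Agent.Helper77.DefectOrder
import Cfsg.Agent.Helper16.CentralRank
import Cfsg.Agent.Helper16.MajorCount

/-!
# (K-G3) a block with a defect group of prime order `p` has at most `p` irreducible characters
-/

set_option autoImplicit false
set_option linter.style.haveILetI false
set_option linter.unusedSectionVars false
set_option linter.unusedVariables false

namespace Cfsg.Agent.Helper78.Kuel

open Cfsg

universe u

variable {G : Type u} [Group G] [Fintype G] (M : Ideal AlgInt) [M.IsPrime]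

/-- (K-G3) a block with defect group of prime order `p` has at most `p` characters. -/
theorem card_block_le_of_card_defectGroup_eq_prime (p : ℕ) [Fact p.Prime] (hM : IsPModular p M)
    (B : Set (IrrCharacter G)) (hB : IsPBlock M B) (D : Subgroup G)
    (hD : IsDefectGroup p M B D) (hcard : Nat.card D = p) : Nat.card B ≤ p := by
  classical
  have hpr : p.Prime := Fact.out
  have hcardD : Nat.card D = p ^ blockDefect p B := Helper77.card_defectGroup hM hB D hD
  have hd1 : blockDefect p B = 1 := by
    rw [hcard] at hcardD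
    have h2 : p ^ 1 = p ^ blockDefect p B := by rw [pow_one]; exact hcardD
    exact (Nat.pow_right_injective hpr.two_le h2).symm
  -- a generator
  have hne : ∃ y0 : D, y0 ≠ 1 := by
    by_contra hcon
    push_neg at hcon
    have : Subsingleton D := ⟨fun a b => by rw [hcon a, hcon b]⟩
    have h1 : Nat.card D = 1 := Nat.card_eq_one_iff_unique.2 ⟨this, ⟨1⟩⟩
    rw [hcard] at h1
    exact hpr.one_lt.ne' h1
  obtain ⟨y0, hy0⟩ := hne
  set y : G := (y0 : G) with hy
  have hyD : y ∈ D := y0.2
  have hy1 : y ≠ 1 := fun h => hy0 (Subtype.ext h)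
  have hord0 : orderOf y0 = p := by
    have hdvd : orderOf y0 ∣ p := by rw [← hcard]; exact orderOf_dvd_natCard y0
    rcases (Nat.dvd_prime hpr).1 hdvd with h | h
    · exact absurd (orderOf_eq_one_iff.1 h) hy0
    · exact h
  have hord : orderOf y = p := by
    rw [hy, Subgroup.orderOf_coe]; exact hord0
  have hzp : Subgroup.zpowers y = D := by
    apply Subgroup.eq_of_le_of_card_ge
    · rw [Subgroup.zpowers_le]; exact hyD
    · rw [Nat.card_zpowers, hord, hcard]
  have hDelts : ∀ x ∈ D, ∃ k : ℤ, y ^ k = x := by
    intro x hx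
    rw [← hzp] at hx
    exact Subgroup.mem_zpowers_iff.1 hx
  -- the subgroup `L = D C_G(D) = C_G(y)`
  set L : Subgroup G := D ⊔ Subgroup.centralizer (D : Set G) with hL
  have hcent : Subgroup.centralizer (D : Set G) = Subgroup.centralizer ({y} : Set G) := by
    ext x
    rw [Subgroup.mem_centralizer_iff, Subgroup.mem_centralizer_singleton_iff]
    constructor
    · intro h
      exact (h y hyD).symm
    · intro h d hd
      obtain ⟨k, rfl⟩ := hDelts d hd
      have hc : Commute y x := h.symm
      exact (hc.zpow_left k).eq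
  have hDC : D ≤ Subgroup.centralizer (D : Set G) := by
    intro x hx
    rw [Subgroup.mem_centralizer_iff]
    intro d hd
    obtain ⟨k, rfl⟩ := hDelts d hd
    obtain ⟨l, rfl⟩ := hDelts x hx
    exact (Commute.zpow_zpow_self y k l).eq
  have hLeq : L = Subgroup.centralizer ({y} : Set G) := by
    rw [hL, sup_eq_right.2 hDC, hcent]
  haveI : Fintype L := Fintype.ofFinite L
  have hyL : y ∈ L := (le_sup_left : D ≤ L) hyD
  have hDL : D ≤ L := le_sup_left
  obtain ⟨b, hbD, hind⟩ := Helper77.exists_block_sup_centralizer (P := D) hM B hB hD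
  have hb : IsPBlock M b := hind.1
  have hcardDL : Nat.card (D.subgroupOf L) = p := by
    rw [Nat.card_congr (Subgroup.subgroupOfEquivOfLe hDL).toEquiv, hcard]
  have hcardb : Nat.card (D.subgroupOf L) = p ^ blockDefect p b :=
    Helper77.card_defectGroup hM hb (D.subgroupOf L) hbD
  have hdb : blockDefect p b = 1 := by
    rw [hcardDL] at hcardb
    have h2 : p ^ 1 = p ^ blockDefect p b := by rw [pow_one]; exact hcardb
    exact (Nat.pow_right_injective hpr.two_le h2).symm
  have hLcomm : ∀ g : L, (g : G) * y = y * (g : G) := by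
    intro g
    have hg : (g : G) ∈ Subgroup.centralizer ({y} : Set G) := hLeq ▸ g.2
    exact Subgroup.mem_centralizer_singleton_iff.1 hg
  have hyc : (⟨y, hyL⟩ : L) ∈ Subgroup.center L := by
    rw [Subgroup.mem_center_iff]
    intro g
    apply Subtype.ext
    exact hLcomm g
  have hDZ : D.subgroupOf L ≤ Subgroup.center L := by
    intro x hx
    rw [Subgroup.mem_subgroupOf] at hx
    obtain ⟨k, hk⟩ := hDelts _ hx
    have : x = (⟨y, hyL⟩ : L) ^ k := by
      apply Subtype.ext
      rw [Subgroup.coe_zpow]
      exact hk.symm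
    rw [this]
    exact Subgroup.zpow_mem _ hyc k
  have hrank : blockRank p b ≤ 1 :=
    (Helper16.card_le_and_blockRank_le_one_of_central hM hb (D.subgroupOf L) hDZ hcardb).2
  have hle := Helper16.card_block_le_pow_mul_blockRank hM hB L ⟨y, hyL⟩ hyc hLeq
    ⟨1, by rw [pow_one]; exact hord⟩ hind (by rw [hdb, hd1])
  rw [hd1, pow_one] at hle
  calc Nat.card B ≤ p * blockRank p b := hle
    _ ≤ p * 1 := Nat.mul_le_mul_left p hrank
    _ = p := mul_one p

end Cfsg.Agent.Helper78.Kuel
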