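import Cfsg.Agent.Helper77.ExtFirstMain
import Cfsg.Agent.Helper77.DefectOrder
import Cfsg.Agent.Helper77.CyclicDefect
import Cfsg.Agent.Helper77.KleinRank
import Cfsg.Agent.Helper77.KleinMain
import Cfsg.Agent.Helper77.AbelianNilpotent

/-!
# (K-G4) nilpotency of a block with `l(B) = 1` and `|D| = k(B) ≤ 4`
-/

set_option autoImplicit false
set_option linter.style.haveILetI false
set_option linter.unusedSectionVars false
set_option linter.unusedVariables false

namespace Cfsg.Agent.Helper78.Kuel

open Cfsg

universe u

section abstractGroups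

/-- a non-cyclic group of order four is a Klein four group. -/
theorem isKleinFour_of_card_four_of_not_isCyclic {H : Type*} [Group H] (h4 : Nat.card H = 4)
    (hnc : ¬ IsCyclic H) : IsKleinFour H := by
  haveI : Finite H := Nat.finite_of_card_ne_zero (by omega)
  refine ⟨h4, ?_⟩
  have hsq : ∀ x : H, x ^ 2 = 1 := by
    intro x
    have hdvd : orderOf x ∣ 4 := by rw [← h4]; exact orderOf_dvd_natCard x
    have hle : orderOf x ≤ 4 := Nat.le_of_dvd (by norm_num) hdvd
    have hne4 : orderOf x ≠ 4 := by
      intro h
      exact hnc (isCyclic_of_orderOf_eq_card x (by rw [h, h4]))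
    have hpos : 0 < orderOf x := orderOf_pos x
    have h12 : orderOf x = 1 ∨ orderOf x = 2 := by
      interval_cases h : orderOf x
      · exact Or.inl rfl
      · exact Or.inr rfl
      · exfalso; norm_num at hdvd
      · exact absurd rfl hne4
    rcases h12 with h | h
    · rw [orderOf_eq_one_iff.1 h]; exact one_pow 2
    · rw [← h]; exact pow_orderOf_eq_one x
  have hdvd : Monoid.exponent H ∣ 2 := Monoid.exponent_dvd_of_forall_pow_eq_one hsq
  rcases (Nat.dvd_prime Nat.prime_two).1 hdvd with h | h
  · exfalso
    have hsub : Subsingleton H := Monoid.exp_eq_one_iff.1 h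
    have : Nat.card H = 1 := Nat.card_eq_one_iff_unique.2 ⟨hsub, ⟨1⟩⟩
    omega
  · exact h

end abstractGroups

variable {G : Type u} [Group G] [Fintype G] (M : Ideal AlgInt) [M.IsPrime]

/-- transport of an induced block along an equality of subgroups. -/
theorem exists_isInducedBlock_of_eq {B : Set (IrrCharacter G)} (K : Subgroup G) :
    ∀ (L : Subgroup G), L = K → ∀ (b : Set (IrrCharacter L)), IsInducedBlock M L b B →
      ∃ c : Set (IrrCharacter K), IsInducedBlock M K c B := by
  intro L hL
  subst hL
  exact fun b hb => ⟨b, hb⟩

/-- (K-G4) nilpotency of a block with `l(B) = 1` and `|D| = k(B) ≤ 4`. -/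
theorem isNilpotentBlock_of_card_defectGroup_eq_card (p : ℕ) [Fact p.Prime]
    (hM : IsPModular p M) (B : Set (IrrCharacter G)) (hB : IsPBlock M B) (D : Subgroup G)
    (hD : IsDefectGroup p M B D) (hD1 : D ≠ ⊥) (hl : blockRank p B = 1)
    (hDk : Nat.card D = Nat.card B) (hk : Nat.card B ≤ 4) : IsNilpotentBlock p M B := by
  classical
  have hpr : p.Prime := Fact.out
  have hcardD : Nat.card D = p ^ blockDefect p B := Helper77.card_defectGroup hM hB D hD
  have hD4 : Nat.card D ≤ 4 := hDk ▸ hk
  have hDne1 : Nat.card D ≠ 1 := fun h => hD1 ((Subgroup.card_eq_one).1 h)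
  set d := blockDefect p B with hd
  -- `(p, d) ∈ {(2,1), (3,1), (2,2)}`
  have hd0 : d ≠ 0 := by
    intro h0
    rw [h0, pow_zero] at hcardD
    exact hDne1 hcardD
  have hd2 : d ≤ 2 := by
    by_contra hlt
    have h3 : 3 ≤ d := by omega
    have : 2 ^ 3 ≤ p ^ d :=
      (Nat.pow_le_pow_left hpr.two_le 3).trans (Nat.pow_le_pow_right hpr.pos h3)
    omega
  -- `D` is abelian
  have hab : ∀ x ∈ D, ∀ y ∈ D, x * y = y * x := by
    intro x hx y hy
    have hcomm : ∀ a b : D, a * b = b * a := by
      have hd12 : d = 1 ∨ d = 2 := by omega
      rcases hd12 with h | h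
      · rw [h, pow_one] at hcardD
        haveI : IsCyclic D := isCyclic_of_prime_card hcardD
        intro a b
        exact (IsCyclic.commGroup (α := D)).mul_comm a b
      · rw [h] at hcardD
        exact IsPGroup.commutative_of_card_eq_prime_sq hcardD
    exact congrArg Subtype.val (hcomm ⟨x, hx⟩ ⟨y, hy⟩)
  -- the root `c` of `B` in `C_G(D)`
  have hDC : D ≤ Subgroup.centralizer (D : Set G) := by
    intro x hx
    rw [Subgroup.mem_centralizer_iff]
    intro y hy
    exact hab y hy x hx
  obtain ⟨b, -, hind⟩ := Helper77.exists_block_sup_centralizer (P := D) hM B hB hD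
  obtain ⟨c, hc⟩ := exists_isInducedBlock_of_eq M (Subgroup.centralizer (D : Set G))
    (D ⊔ Subgroup.centralizer (D : Set G)) (sup_eq_right.2 hDC) b hind
  have hmax := Helper77.isMaximalBrauerPair_of_isInducedBlock_of_abelian hM B hB D hD hab c hc
  refine Helper77.isNilpotentBlock_of_abelian_of_stab_le hM B D c hmax hab ?_
  -- the stabilizer
  set T : Subgroup G := Helper77.stabT D c with hTdef
  have hT : ∀ g : G, g ∈ T ↔ (g ∈ Subgroup.normalizer (D : Set G) ∧
      StabilizesBlock (Subgroup.centralizer (D : Set G)) c g) := fun g => Helper77.mem_stabT D c g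
  obtain ⟨hPT, hCT, hTN, hstabT⟩ := Helper77.stab_basic D c T hT
  suffices hTC : T ≤ Subgroup.centralizer (D : Set G) by
    intro x hxN hxS
    exact hTC ((hT x).2 ⟨hxN, hxS⟩)
  by_cases hcyc : IsCyclic D
  · haveI hn : ((Subgroup.centralizer (D : Set G)).subgroupOf T).Normal :=
      (Subgroup.normal_subgroupOf_iff_le_normalizer hCT).mpr
        (hTN.trans (Helper78.normalizer_le_normalizer_centralizer D))
    obtain ⟨-, hdvd, hfree⟩ :=
      Helper77.cyclic_defect_inertial_quotient hM B hB D hD hD1 hcyc c hc T hT
    by_contra hnot
    -- an element of `T` outside `C_G(D)`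
    obtain ⟨t, htT, htC⟩ := SetLike.not_le_iff_exists.1 hnot
    have hrel1 : (Subgroup.centralizer (D : Set G)).relIndex T ≠ 1 := by
      intro h1
      exact hnot (Subgroup.relIndex_eq_one.1 h1)
    -- `p ≠ 2`
    have hp2 : p ≠ 2 := by
      intro h2
      rw [h2] at hdvd
      exact hrel1 (Nat.dvd_one.1 hdvd)
    -- so `|D| = 3`
    have hp3 : p = 3 ∧ d = 1 := by
      have hp3' : 3 ≤ p := by
        have := hpr.two_le
        omega
      have hd1 : d = 1 := by
        by_contra hne
        have hd2' : d = 2 := by omega
        rw [hd2'] at hcardD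
        have : 3 ^ 2 ≤ p ^ 2 := Nat.pow_le_pow_left hp3' 2
        omega
      rw [hd1, pow_one] at hcardD
      refine ⟨?_, hd1⟩
      have hp4 : p ≤ 4 := hcardD ▸ hD4
      have hne4 : p ≠ 4 := by
        intro h4
        rw [h4] at hpr
        norm_num at hpr
      omega
    obtain ⟨hp3, hd1⟩ := hp3
    have hcard3 : Nat.card D = 3 := by rw [hcardD, hd1, pow_one, hp3]
    -- `t` inverts `D`
    have htN : t ∈ Subgroup.normalizer (D : Set G) := hTN htT
    have hinv : ∀ a ∈ D, a ≠ 1 → t * a * t⁻¹ = a⁻¹ := by
      intro a haD ha1
      have hmem : t * a * t⁻¹ ∈ D := (Subgroup.mem_normalizer_iff.1 htN a).1 haD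
      have hne : t * a * t⁻¹ ≠ a := fun h => htC (hfree t htT a haD ha1 h)
      have hne1 : t * a * t⁻¹ ≠ 1 := by
        intro h
        apply ha1
        have : a = t⁻¹ * (t * a * t⁻¹) * t := by group
        rw [this, h]; group
      -- the three elements `1, a, a⁻¹`
      have hainv : a⁻¹ ≠ a := by
        intro h
        have h2 : a ^ 2 = 1 := by
          rw [pow_two]
          calc a * a = a⁻¹ * a := by rw [h]
            _ = 1 := inv_mul_cancel a
        have hord : orderOf a ∣ 2 := orderOf_dvd_of_pow_eq_one h2
        have hord3 : orderOf a ∣ 3 := by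
          have := orderOf_dvd_natCard (⟨a, haD⟩ : D)
          rw [hcard3] at this
          rwa [← Subgroup.orderOf_coe] at this
        have h1 : orderOf a ∣ 1 := by
          have := Nat.dvd_gcd hord hord3
          simpa using this
        exact ha1 (orderOf_eq_one_iff.1 (Nat.dvd_one.1 h1))
      by_contra hcon
      -- four distinct elements of `D`
      have hfour : 4 ≤ Nat.card D := by
        let f : Fin 4 → D := ![1, ⟨a, haD⟩, ⟨a⁻¹, D.inv_mem haD⟩, ⟨t * a * t⁻¹, hmem⟩]
        have hinj : Function.Injective f := by
          intro i j hij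
          have hval : ((f i : D) : G) = ((f j : D) : G) := congrArg Subtype.val hij
          have ha1' : a⁻¹ ≠ 1 := fun h => ha1 (inv_eq_one.1 h)
          fin_cases i <;> fin_cases j <;>
            simp [f, Matrix.cons_val_zero, Matrix.cons_val_one] at hval ⊢ <;>
            first
              | exact absurd hval ha1
              | exact absurd hval.symm ha1
              | exact absurd hval ha1'
              | exact absurd hval.symm ha1'
              | exact absurd hval hne1
              | exact absurd hval.symm hne1
              | exact absurd hval hainv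
              | exact absurd hval.symm hainv
              | exact absurd hval hne
              | exact absurd hval.symm hne
              | exact absurd hval hcon
              | exact absurd hval.symm hcon
        have := Nat.card_le_card_of_injective f hinj
        simpa using this
      omega
    -- free and transitive
    have hfree' : ∀ g ∈ Helper77.stabT D c, ∀ x ∈ D, x ≠ 1 → g * x * g⁻¹ = x →
        g ∈ Subgroup.centralizer (D : Set G) := fun g hg x hx hx1 h => hfree g hg x hx hx1 h
    have htrans : ∀ a ∈ D, a ≠ 1 → ∀ a' ∈ D, a' ≠ 1 → ∃ s ∈ Helper77.stabT D c,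
        s * a * s⁻¹ = a' := by
      intro a haD ha1 a' ha'D ha'1
      by_cases haa : a' = a
      · exact ⟨1, Subgroup.one_mem _, by rw [haa]; group⟩
      · refine ⟨t, htT, ?_⟩
        rw [hinv a haD ha1]
        -- `a' = a⁻¹`
        by_contra hcon
        have hainv1 : a⁻¹ ≠ 1 := fun h => ha1 (inv_eq_one.1 h)
        have hainv : a⁻¹ ≠ a := by
          intro h
          have := hinv a haD ha1
          rw [h] at this
          exact htC (hfree t htT a haD ha1 this)
        have hfour : 4 ≤ Nat.card D := by
          let f : Fin 4 → D := ![1, ⟨a, haD⟩, ⟨a⁻¹, D.inv_mem haD⟩, ⟨a', ha'D⟩]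
          have hinj : Function.Injective f := by
            intro i j hij
            have hval : ((f i : D) : G) = ((f j : D) : G) := congrArg Subtype.val hij
            fin_cases i <;> fin_cases j <;>
              simp [f, Matrix.cons_val_zero, Matrix.cons_val_one] at hval ⊢ <;>
              first
                | exact absurd hval ha1
                | exact absurd hval.symm ha1
                | exact absurd hval hainv1
                | exact absurd hval.symm hainv1
                | exact absurd hval ha'1
                | exact absurd hval.symm ha'1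
                | exact absurd hval hainv
                | exact absurd hval.symm hainv
                | exact absurd hval haa
                | exact absurd hval.symm haa
                | exact absurd hval hcon
                | exact absurd hval.symm hcon
          have := Nat.card_le_card_of_injective f hinj
          simpa using this
        omega
    obtain ⟨a0, ha0⟩ : ∃ a0 : D, a0 ≠ 1 := by
      by_contra hcon
      push_neg at hcon
      have : Subsingleton D := ⟨fun a b => by rw [hcon a, hcon b]⟩
      exact hDne1 (Nat.card_eq_one_iff_unique.2 ⟨this, ⟨1⟩⟩)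
    have hkl := Helper77.blockRank_add_one_of_free_transitive hM B D c hmax hab hfree' htrans
      (a0 : G) a0.2 (fun h => ha0 (Subtype.ext h))
    rw [hl] at hkl
    omega
  · -- Klein four
    have hp2d2 : p = 2 ∧ d = 2 := by
      have hd12 : d = 1 ∨ d = 2 := by omega
      rcases hd12 with h | h
      · exfalso
        rw [h, pow_one] at hcardD
        exact hcyc (isCyclic_of_prime_card hcardD)
      · refine ⟨?_, h⟩
        rw [h] at hcardD
        by_contra hne
        have hp3' : 3 ≤ p := by
          have := hpr.two_le
          omega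
        have : 3 ^ 2 ≤ p ^ 2 := Nat.pow_le_pow_left hp3' 2
        omega
    obtain ⟨hp2, hd2'⟩ := hp2d2
    subst hp2
    have hcard4 : Nat.card D = 4 := by rw [hcardD, hd2']; norm_num
    have hV : IsKleinFour D := isKleinFour_of_card_four_of_not_isCyclic hcard4 hcyc
    obtain ⟨-, -, hrank⟩ := Helper77.klein_four_main hM B hB D hD hV c hc T hT _ rfl
    rw [hl] at hrank
    exact Subgroup.relIndex_eq_one.1 hrank.symm

end Cfsg.Agent.Helper78.Kuel
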