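import Cfsg.Agent.Helper78.Kuel.Defs
import Cfsg.Agent.Helper78.Brandt.Main
import Cfsg.Agent.Helper81.BrandtCONV
import Cfsg.Agent.Helper77.DefectOrder
import Cfsg.Agent.Helper70.KuelR1
import Cfsg.Agent.Helper60.KuelR2
import Cfsg.Agent.Helper34.KuelR3
import Cfsg.Agent.Helper60.KuelR5
import Cfsg.Agent.Helper80.KuelG1
import Cfsg.Agent.Helper74.KuelG2
import Cfsg.Agent.Helper78.Kuel.G3
import Cfsg.Agent.Helper78.Kuel.G4

/-!
# Külshammer's theorem on small blocks with one Brauer character (S4648): final assembly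

`l(B) = 1`, `k(B) ≤ 4`, `D ≠ 1` ⟹ `B` nilpotent, `|D| = k(B)`, `p ∈ {2, 3}`.
Pieces: K-R1 helper70 (Külshammer's lemma), K-R2/K-R5 helper60, K-R3 helper34, K-G0/K-G2 helper74,
K-G1 helper80, and `G3`, `G4` in this folder.
-/

set_option autoImplicit false

namespace Cfsg.Agent.Helper78.Kuel

open Module Cfsg Cfsg.Agent.Helper78 Cfsg.Agent.Helper78.Brandt

universe u

section ring

variable {k : Type*} [Field k] {A : Type*} [Ring A] [Algebra k A]

/-- (K-R2) corner version of Külshammer's lemma. -/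
theorem cornerCommSpan_eq_bot [FiniteDimensional k A] (lam : A →ₗ[k] k) (h : IsSymmForm k lam)
    (e : A) (he : IsIdempotentElem e)
    (I : Submodule k A) (hI1 : I ≤ cornerSpace k e) (hI2 : I * I ≤ I) (hnil : ∃ N : ℕ, I ^ N = ⊥)
    (hspan : cornerSpace k e ≤ Submodule.span k {e} ⊔ I)
    (hdim : finrank k (cornerSpace k e) ≤ finrank k (cornerCommSpan k e) + 4) :
    cornerCommSpan k e = ⊥ :=
  Cfsg.Agent.Helper60.KuelR2.cornerCommSpan_eq_bot_of_local
    (fun Λ _ _ _ lam' h' J _ hJ hloc hZ =>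
      Cfsg.Agent.Helper70.KuelR1.comm_of_local_symm_of_center_le_four lam' h' J hJ hloc hZ)
    lam h e he I hI1 hI2 hnil hspan hdim

/-- (K-R4) **one simple module**: structure of a symmetric algebra with one simple module and
centre of dimension `≤ 4` (assembly). -/
theorem abstract_one_simple [IsAlgClosed k] [FiniteDimensional k A] [Nontrivial A]
    (lam : A →ₗ[k] k) (h : IsSymmForm k lam) (hT : finrank k (traceFormSpace k A) ≤ 1)
    (hZ : finrank k (Subalgebra.center k A) ≤ 4) :
    ∃ (n c : ℕ) (e : A), 0 < n ∧ 1 ≤ c ∧ c ≤ finrank k (Subalgebra.center k A) ∧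
      IsIdempotentElem e ∧ finrank k A = c * n ^ 2 ∧ finrank k (leftSpace k e) = c * n := by
  have hart : IsArtinianRing A := IsArtinianRing.of_finite k A
  have hJnil : ∃ N : ℕ, (Ring.jacobson A) ^ N = ⊥ := by
    obtain ⟨N, hN⟩ := (IsSemiprimaryRing.isNilpotent : IsNilpotent (Ring.jacobson A))
    exact ⟨N, by simpa using hN⟩
  have hfd : FiniteDimensional k (A ⧸ Ring.jacobson A) :=
    Module.Finite.of_surjective (Ideal.Quotient.mkₐ k (Ring.jacobson A)).toLinearMap
      (Ideal.Quotient.mkₐ_surjective k _)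
  obtain ⟨r, d, hd, ⟨φ⟩⟩ :=
    IsSemisimpleRing.exists_algEquiv_pi_matrix_of_isAlgClosed k (A ⧸ Ring.jacobson A)
  have hr := Cfsg.Agent.Helper34.KuelR3.card_le_finrank_traceFormSpace (k := k) (Ring.jacobson A) d hd φ
  have hr1 : r ≤ 1 := hr.trans hT
  have h1 := Cfsg.Agent.Helper65.BrandtR1.finrank_center_add_finrank_commSpan lam h
  interval_cases r
  · exfalso
    have hsub : Subsingleton (A ⧸ Ring.jacobson A) := φ.toEquiv.subsingleton
    have h1J : (1 : A) ∈ Ring.jacobson A := by
      rw [← Ideal.Quotient.eq_zero_iff_mem]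
      exact Subsingleton.elim _ _
    have htop : Ring.jacobson A = ⊤ := (Ideal.eq_top_iff_one _).2 h1J
    obtain ⟨N, hN⟩ := hJnil
    rw [htop] at hN
    have : (⊤ : Ideal A) ^ N = ⊤ := Ideal.top_pow A N
    rw [this] at hN
    exact top_ne_bot hN
  · have : NeZero (d 0) := hd 0
    let ψ0 : ((i : Fin 1) → Matrix (Fin (d i)) (Fin (d i)) k) ≃+*
        Matrix (Fin (d 0)) (Fin (d 0)) k :=
      RingEquiv.piUnique (fun i : Fin 1 => Matrix (Fin (d i)) (Fin (d i)) k)
    let ψ : ((i : Fin 1) → Matrix (Fin (d i)) (Fin (d i)) k) ≃ₐ[k]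
        Matrix (Fin (d 0)) (Fin (d 0)) k :=
      AlgEquiv.ofRingEquiv (f := ψ0) (fun c => rfl)
    set n := d 0 with hn
    obtain ⟨e, x, y, I, he, hφe, he0, hxy, hI1, hI2, hnil, hspan⟩ :=
      Cfsg.Agent.Helper38.BrandtR7.exists_lifting_data (k := k) (Ring.jacobson A) hJnil
        (φ.trans ψ)
    have h2 := Cfsg.Agent.Helper48.BrandtR2.finrank_cornerSpace_add_finrank_commSpan_le
      (k := k) e he x y hxy
    have hdim : finrank k (cornerSpace k e) ≤ finrank k (cornerCommSpan k e) + 4 := by omega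
    have h3 := cornerCommSpan_eq_bot lam h e he I hI1 hI2 hnil hspan hdim
    rw [h3, finrank_bot] at h2
    have hc1 : 1 ≤ finrank k (cornerSpace k e) := by
      have hmem : e ∈ cornerSpace k e := mem_cornerSpace.2 ⟨e, by rw [he.eq, he.eq]⟩
      have : 0 < finrank k (cornerSpace k e) :=
        Module.finrank_pos_iff_exists_ne_zero.2
          ⟨⟨e, hmem⟩, fun h0 => he0 (congrArg Subtype.val h0)⟩
      omega
    obtain ⟨h4a, h4b⟩ :=
      Cfsg.Agent.Helper53.Brandt.finrank_eq_mul_of_matrix_quotient (k := k) (Ring.jacobson A)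
        hJnil (φ.trans ψ) e he hφe
    have h5 := Cfsg.Agent.Helper65.BrandtR1.finrank_rightSpace_eq_finrank_leftSpace lam h e he
    refine ⟨n, finrank k (cornerSpace k e), e, Nat.pos_of_ne_zero (NeZero.ne _), hc1, by omega,
      he, ?_, ?_⟩
    · rw [h4a, h5, h4b]; ring
    · rw [h4b]; ring

/-- (K-R5) **relative version** for the block algebra `A ε` of a central idempotent (mirror of
B-REL: apply `abstract_one_simple` to `A ⧸ annIdeal ε`). -/
theorem relative_one_simple [IsAlgClosed k] [FiniteDimensional k A] (lam : A →ₗ[k] k)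
    (h : IsSymmForm k lam) (ε : A) (hε : IsIdempotentElem ε) (hεc : ∀ a : A, ε * a = a * ε)
    (hε0 : ε ≠ 0) (hT : finrank k (traceFormSpaceAt k ε) ≤ 1)
    (hZ : finrank k (Submodule.map (LinearMap.mulRight k ε)
      (Subalgebra.toSubmodule (Subalgebra.center k A))) ≤ 4) :
    ∃ (n c : ℕ) (e : A), 0 < n ∧ 1 ≤ c ∧
      c ≤ finrank k (Submodule.map (LinearMap.mulRight k ε)
        (Subalgebra.toSubmodule (Subalgebra.center k A))) ∧
      IsIdempotentElem e ∧ finrank k (leftSpace k ε) = c * n ^ 2 ∧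
      finrank k (leftSpace k e) = c * n :=
  Cfsg.Agent.Helper60.KuelR5.relative_one_simple_of_abstract
    (fun A' _ _ _ _ lam' h' hT' hZ' => abstract_one_simple lam' h' hT' hZ')
    lam h ε hε hεc hε0 hT hZ

end ring

section group

variable {G : Type u} [Group G] [Fintype G]

variable (M : Ideal AlgInt) [M.IsPrime]

open Classical in
/-- the number of simple modules of the block algebra is at most `l(B)`. -/
theorem finrank_traceFormSpaceAt_epsB_le (p : ℕ) [Fact p.Prime] (hM : IsPModular p M)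
    {B : Set (IrrCharacter G)} (hB : IsPBlock M B) :
    finrank (ResField M) (traceFormSpaceAt (ResField M) (epsB M B)) ≤ blockRank p B := by
  classical
  obtain ⟨h1, h2, h3⟩ := Cfsg.Agent.Helper80.KuelG1.regClassMat_props M p hM hB
  obtain ⟨h4, -⟩ := Cfsg.Agent.Helper31.BrandtRK.rank_map_resMap M (regClassMat p B) h1 h2
  exact (Cfsg.Agent.Helper74.KuelG2.finrank_traceFormSpaceAt_epsB_le_rank M p hM hB).trans (h4 ▸ h3)

/-- (K-AR) arithmetic. -/
theorem kuel_arith (p a d S n c : ℕ) (hp : p.Prime) (hd : 1 ≤ d) (hS0 : S ≠ 0)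
    (hS : S.factorization p = 2 * a - d) (hda : d ≤ a) (hc4 : c ≤ 4) (hSc : S = c * n ^ 2)
    (hdiv : p ^ a ∣ c * n) :
    (p = 2 ∧ d = 1 ∧ (c = 2 ∨ c = 4)) ∨ (p = 3 ∧ d = 1 ∧ c = 3) ∨ (p = 2 ∧ d = 2 ∧ c = 4) := by
  have hc0 : c ≠ 0 := by
    rintro rfl
    simp at hSc
    exact hS0 hSc
  have hn0 : n ≠ 0 := by
    rintro rfl
    simp at hSc
    exact hS0 hSc
  have h3 : a ≤ (c * n).factorization p :=
    (hp.pow_dvd_iff_le_factorization (Nat.mul_ne_zero hc0 hn0)).1 hdiv
  rw [Nat.factorization_mul hc0 hn0] at h3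
  simp only [Finsupp.coe_add, Pi.add_apply] at h3
  have h4 : S.factorization p = c.factorization p + 2 * n.factorization p := by
    rw [hSc, Nat.factorization_mul hc0 (pow_ne_zero 2 hn0), Nat.factorization_pow]
    simp
  have hcd : d ≤ c.factorization p := by omega
  have hfac : ∀ q : ℕ, q.Prime → p ≠ q → q.factorization p = 0 := by
    intro q hq hne
    apply Nat.factorization_eq_zero_of_not_dvd
    intro hdvd
    exact hne ((Nat.prime_dvd_prime_iff_eq hp hq).1 hdvd)
  interval_cases c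
  · exact absurd rfl hc0
  · simp at hcd
    omega
  · by_cases h2 : p = 2
    · subst h2
      rw [Nat.Prime.factorization_self Nat.prime_two] at hcd
      left
      exact ⟨rfl, by omega, Or.inl rfl⟩
    · rw [hfac 2 Nat.prime_two h2] at hcd
      omega
  · by_cases h2 : p = 3
    · subst h2
      rw [Nat.Prime.factorization_self Nat.prime_three] at hcd
      right; left
      exact ⟨rfl, by omega, rfl⟩
    · rw [hfac 3 Nat.prime_three h2] at hcd
      omega
  · have h44 : (4 : ℕ) = 2 ^ 2 := by norm_num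
    rw [h44, Nat.factorization_pow] at hcd
    simp only [Finsupp.coe_smul, Pi.smul_apply, smul_eq_mul] at hcd
    by_cases h2 : p = 2
    · subst h2
      rw [Nat.Prime.factorization_self Nat.prime_two] at hcd
      have : d = 1 ∨ d = 2 := by omega
      rcases this with h | h
      · left; exact ⟨rfl, h, Or.inr rfl⟩
      · right; right; exact ⟨rfl, h, rfl⟩
    · rw [hfac 2 Nat.prime_two h2] at hcd
      omega

/-- **Külshammer**: `l(B) = 1`, `k(B) ≤ 4`, `D ≠ 1` ⟹ `|D| = k(B)` and `p ∈ {2, 3}`. -/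
theorem card_defectGroup_eq_card_block (p : ℕ) [Fact p.Prime]
    (hM : IsPModular p M) (B : Set (IrrCharacter G)) (hB : IsPBlock M B) (D : Subgroup G)
    (hD : IsDefectGroup p M B D) (hD1 : D ≠ ⊥) (hl : blockRank p B = 1)
    (hk : Nat.card B ≤ 4) : Nat.card D = Nat.card B ∧ (p = 2 ∨ p = 3) := by
  classical
  have hpr : p.Prime := Fact.out
  have : IsAlgClosed (ResField M) := Helper22.ResFieldAlgClosed.resField_isAlgClosed M
  have : CharP (ResField M) p := resField_charP hM
  set k := ResField M with hk_def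
  set S := ∑ᶠ χ ∈ B, charDegree (χ : G → ℂ) ^ 2 with hS_def
  set a := (Nat.card G).factorization p with ha_def
  set d := blockDefect p B with hd_def
  have hcardD : Nat.card D = p ^ d := Cfsg.Agent.S0908.result p M hM B hB D hD
  have hSfac : S.factorization p = 2 * a - d := Cfsg.Agent.S4491.result p M hM B hB
  have hd1 : 1 ≤ d := by
    by_contra hlt
    have hd0 : d = 0 := by omega
    rw [hd0, pow_zero] at hcardD
    exact hD1 ((Subgroup.card_eq_one).1 hcardD)
  have hMp : M.IsPrime := inferInstance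
  have hne : B.Nonempty := isPBlock_nonempty hMp hB
  obtain ⟨χ, hχ, hdef, -⟩ := Helper16.exists_height_zero' p B hne
  have hda : d ≤ a := by rw [hd_def, hdef]; exact Nat.sub_le _ _
  have hS0 : S ≠ 0 := by
    have hfin : B.Finite := Set.toFinite B
    rw [hS_def, finsum_mem_eq_finite_toFinset_sum _ hfin]
    intro h0
    have h1 := (Finset.sum_eq_zero_iff.1 h0) χ (hfin.mem_toFinset.2 hχ)
    have h2 := charDegree_pos_of_isIrrCharacter χ.2
    exact (pow_ne_zero 2 h2.ne') h1
  obtain ⟨lam, hlam⟩ := exists_symmForm_monoidAlgebra (G := G) k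
  have hε0 : epsB M B ≠ 0 := by
    intro h0
    have h1 := finrank_leftSpace_epsB M hB
    rw [h0] at h1
    have h2 : leftSpace k (0 : MonoidAlgebra k G) = ⊥ := by
      rw [eq_bot_iff]
      intro x hx
      obtain ⟨a, rfl⟩ := mem_leftSpace.1 hx
      simp
    rw [h2, finrank_bot] at h1
    exact hS0 h1.symm
  have hZ := finrank_center_mul_epsB_le M hB
  have hT := finrank_traceFormSpaceAt_epsB_le M p hM hB
  rw [hl] at hT
  obtain ⟨n, c, e, hn, hc1, hcZ, he, hA, hle⟩ :=
    relative_one_simple lam hlam (epsB M B) (epsB_isIdempotentElem M hB) (epsB_central M B)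
      hε0 hT (hZ.trans hk)
  rw [finrank_leftSpace_epsB M hB] at hA
  have hck : c ≤ Nat.card B := hcZ.trans hZ
  have hdiv : p ^ a ∣ c * n := by
    rw [← hle]
    exact Cfsg.Agent.Helper80.BrandtGG.pow_factorization_dvd_finrank_leftSpace k p e he
  have har := kuel_arith p a d S n c hpr hd1 hS0 hSfac hda (hck.trans hk) hA hdiv
  rcases har with ⟨hp2, hd1', hc⟩ | ⟨hp3, hd1', hc⟩ | ⟨hp2, hd2, hc⟩
  · refine ⟨?_, Or.inl hp2⟩
    have hD2 : Nat.card D = 2 := by rw [hcardD, hp2, hd1', pow_one]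
    rw [hD2, Cfsg.Agent.Helper81.BrandtCONV.card_block_eq_two_of_card_defectGroup_eq_two M p hM B
      hB D hD hD2]
  · refine ⟨?_, Or.inr hp3⟩
    have hD3 : Nat.card D = p := by rw [hcardD, hd1', pow_one]
    have h3 := card_block_le_of_card_defectGroup_eq_prime M p hM B hB D hD hD3
    rw [hD3]
    omega
  · refine ⟨?_, Or.inl hp2⟩
    rw [hcardD, hp2, hd2]
    omega

end group

end Cfsg.Agent.Helper78.Kuel

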